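import Groth.Agent.CotT.K96.Split
import Mathlib.RingTheory.Extension.Cotangent.BaseChange

/-!
# Descent of formal smoothness through a functional
-/

set_option autoImplicit false
universe u v w

open TensorProduct Algebra

noncomputable section

namespace K96.Descent

open K96.Split

section

variable {k : Type u} {B₀ : Type v} {T : Type w} [CommRing k] [CommRing B₀] [CommRing T] [Algebra k B₀] [Algebra k T]
  [Module.Flat k T] (P : Extension.{u} k B₀)

attribute [local instance] Algebra.TensorProduct.rightAlgebra

/-- apply the functional to the coefficients of the conormal module -/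
def lamC (lam : T →ₗ[k] k) : (P.baseChange (T := T)).Cotangent →ₗ[k] P.Cotangent :=
  (TensorProduct.lid k P.Cotangent).toLinearMap ∘ₗ (LinearMap.rTensor P.Cotangent lam) ∘ₗ
    ((P.tensorCotangentOfFlat T).symm.toLinearMap.restrictScalars k)

theorem lamC_smul_map (lam : T →ₗ[k] k) (t : T) (x : P.Cotangent) :
    lamC P lam (t • Extension.Cotangent.map (P.toBaseChange T) x) = lam t • x := by
  rw [← Extension.tensorCotangentOfFlat_tmul]
  change (TensorProduct.lid k P.Cotangent) ((LinearMap.rTensor P.Cotangent lam)
    ((P.tensorCotangentOfFlat T).symm (P.tensorCotangentOfFlat T (t ⊗ₜ[k] x)))) = _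
  rw [LinearEquiv.symm_apply_apply, LinearMap.rTensor_tmul, TensorProduct.lid_tmul]

omit [Module.Flat k T] in
theorem smul_comm' (b : B₀) (t : T) (y : (P.baseChange (T := T)).Cotangent) : b • t • y = t • b • y := by
  rw [← algebraMap_smul (T ⊗[k] B₀) b (t • y), ← algebraMap_smul (T ⊗[k] B₀) t y,
    ← algebraMap_smul (T ⊗[k] B₀) b y, ← algebraMap_smul (T ⊗[k] B₀) t (_ • y), smul_smul, smul_smul, mul_comm]

theorem lamC_smul (lam : T →ₗ[k] k) (b : B₀) (y : (P.baseChange (T := T)).Cotangent) :
    lamC P lam (b • y) = b • lamC P lam y := by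
  obtain ⟨z, rfl⟩ := (P.tensorCotangentOfFlat T).surjective y
  induction z using TensorProduct.induction_on with
  | zero => simp
  | add z z' hz hz' => rw [map_add, smul_add, map_add, hz, hz', map_add, smul_add]
  | tmul t x =>
    rw [Extension.tensorCotangentOfFlat_tmul, lamC_smul_map, smul_comm' P b t, ← map_smul, lamC_smul_map, smul_comm]

theorem formallySmooth_of_splitBy_tensor [FormallySmooth k P.Ring] (lam : T →ₗ[k] k) (a : T) (ha : lam a = 1)
    (h : SplitBy (P.baseChange (T := T)) (a ⊗ₜ[k] (1 : B₀))) : FormallySmooth k B₀ := by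
  obtain ⟨s, hs⟩ := h
  rw [P.formallySmooth_iff_split_injection]
  let s₀ : P.CotangentSpace →ₗ[B₀] P.Cotangent :=
    { toFun := fun x => lamC P lam (s (Extension.CotangentSpace.map (P.toBaseChange T) x))
      map_add' := fun x y => by rw [map_add, map_add, map_add]
      map_smul' := fun b x => by
        rw [map_smul, LinearMap.map_smul_of_tower, lamC_smul]
        rfl }
  refine ⟨s₀, LinearMap.ext fun x => ?_⟩
  change lamC P lam (s (Extension.CotangentSpace.map (P.toBaseChange T) (P.cotangentComplex x))) = x
  rw [Extension.CotangentSpace.map_cotangentComplex]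
  have h1 := LinearMap.congr_fun hs (Extension.Cotangent.map (P.toBaseChange T) x)
  simp only [LinearMap.comp_apply, LinearMap.smul_apply, LinearMap.id_apply] at h1
  rw [h1]
  have h2 : (a ⊗ₜ[k] (1 : B₀)) • Extension.Cotangent.map (P.toBaseChange T) x =
      a • Extension.Cotangent.map (P.toBaseChange T) x := by
    exact algebraMap_smul (T ⊗[k] B₀) a _
  rw [h2, lamC_smul_map, ha, one_smul]

end

end K96.Descent
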