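import Groth.Agent.LoccohB.GorLci
import Groth.Agent.Models.KoszulCot
import Groth.Agent.Ega4A.CMAss
import Groth.Agent.S0341
import Mathlib.RingTheory.Smooth.Locus
import Mathlib.RingTheory.Flat.Localization

/-!
# `H₁` of the naive cotangent complex of a generically smooth lci algebra
-/

set_option autoImplicit false
universe u

open TensorProduct Algebra

namespace K96.LciH1

/-- a finite flat module over a Noetherian ring embeds in a free module -/
theorem exists_injection_of_flat {S C : Type u} [CommRing S] [IsNoetherianRing S] [AddCommGroup C] [Module S C]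
    [Module.Finite S C] [Module.Flat S C] : ∃ (n : ℕ) (j : C →ₗ[S] (Fin n → S)), Function.Injective j := by
  have : Module.FinitePresentation S C := Module.finitePresentation_of_finite S C
  have : Module.Projective S C := Module.Flat.projective_of_finitePresentation
  obtain ⟨n, f, hf⟩ := Module.Finite.exists_fin' S C
  obtain ⟨s, hs⟩ := Module.projective_lifting_property f LinearMap.id hf
  exact ⟨n, s, fun x y h => by
    have hx := LinearMap.congr_fun hs x
    have hy := LinearMap.congr_fun hs y
    simp only [LinearMap.comp_apply, LinearMap.id_apply] at hx hy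
    rw [← hx, ← hy, h]⟩

variable {k A : Type u} [CommRing k] [CommRing A] [Algebra k A]

theorem exists_injection (E : Extension.{u} k A) [IsNoetherianRing E.Ring]
    (h : LCI.IsKoszulRegularIdeal E.ker) :
    ∃ (n : ℕ) (j : E.Cotangent →ₗ[A] (Fin n → A)), Function.Injective j := by
  have hfl : Module.Flat (E.Ring ⧸ E.ker) E.ker.Cotangent := Groth.Agent.Models.KoszulCot.flat_cotangent h
  have hfin0 : Module.Finite E.Ring E.ker.Cotangent :=
    Module.Finite.of_surjective E.ker.toCotangent E.ker.toCotangent_surjective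
  have hfin : Module.Finite (E.Ring ⧸ E.ker) E.ker.Cotangent :=
    Module.Finite.of_restrictScalars_finite E.Ring (E.Ring ⧸ E.ker) _
  obtain ⟨n, j, hj⟩ := exists_injection_of_flat (S := E.Ring ⧸ E.ker) (C := E.ker.Cotangent)
  let e : (E.Ring ⧸ E.ker) ≃ₗ[E.Ring] A :=
    (Ideal.quotientKerAlgEquivOfSurjective (f := Algebra.ofId E.Ring A) E.algebraMap_surjective).toLinearEquiv
  let e2 : (Fin n → (E.Ring ⧸ E.ker)) ≃ₗ[E.Ring] (Fin n → A) := LinearEquiv.piCongrRight (fun _ => e)
  let j' : E.Cotangent →ₗ[E.Ring] (Fin n → A) :=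
    e2.toLinearMap ∘ₗ (j.restrictScalars E.Ring) ∘ₗ E.cotangentEquivCotangentKer.toLinearMap
  refine ⟨n, j'.extendScalarsOfSurjective E.algebraMap_surjective, ?_⟩
  change Function.Injective j'
  exact e2.injective.comp (hj.comp E.cotangentEquivCotangentKer.injective)

theorem subsingleton_of_generic [IsNoetherianRing A] (H : Type u) [AddCommGroup H] [Module A H]
    (n : ℕ) (j : H →ₗ[A] (Fin n → A)) (hj : Function.Injective j)
    (hmin : ∀ p ∈ associatedPrimes A A, ∀ x : H, ∃ s ∉ p, s • x = 0) : Subsingleton H := by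
  rw [subsingleton_iff_forall_eq 0]
  by_contra hcon
  push Not at hcon
  obtain ⟨h, hh⟩ := hcon
  have h1 : j h ≠ 0 := fun h0 => hh (hj (h0.trans (map_zero j).symm))
  obtain ⟨i, hi⟩ := Function.ne_iff.1 h1
  let φ : H →ₗ[A] A := LinearMap.proj i ∘ₗ j
  have hnt : Nontrivial (LinearMap.range φ) := ⟨⟨φ h, h, rfl⟩, 0, fun h0 => hi (congrArg Subtype.val h0)⟩
  obtain ⟨p, hp⟩ := associatedPrimes.nonempty A (LinearMap.range φ)
  have hp' := associatedPrimes.subset_of_injective (f := (LinearMap.range φ).subtype) Subtype.val_injective hp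
  rw [AssociatedPrimes.mem_iff, isAssociatedPrime_iff] at hp
  obtain ⟨hpp, ⟨-, x, rfl⟩, hpx⟩ := hp
  obtain ⟨s, hs, hsx⟩ := hmin p hp' x
  apply hs
  rw [hpx, Submodule.mem_colon_singleton, Submodule.mem_bot]
  apply Subtype.ext
  change s • φ x = 0
  rw [← map_smul, hsx, map_zero]

end K96.LciH1
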