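import Groth.Agent.CotT.K96.Split

/-!
# Push-forward of a splitting along a quotient
-/

set_option autoImplicit false
universe u v w u' v'

open TensorProduct Algebra

noncomputable section

namespace K96.Push

open K96.Split

variable {A : Type u} {B : Type v} {A' : Type u'} {B' : Type v'} [CommRing A] [CommRing B] [CommRing A'] [CommRing B']
  [Algebra A B] [Algebra A' B'] [Algebra A A'] [Algebra B B'] [Algebra A B'] [IsScalarTower A A' B']
  [IsScalarTower A B B'] {ι : Type w}

omit [IsScalarTower A B B'] in
theorem push (P : Generators A B ι) (P' : Generators A' B' ι) (g : P.toExtension.Hom P'.toExtension)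
    (hX : ∀ i, g.toRingHom (MvPolynomial.X i : P.Ring) = (MvPolynomial.X i : P'.Ring))
    (hspan : Submodule.span B' (Set.range (Extension.Cotangent.map g)) = ⊤) {a : B}
    (h : SplitBy P.toExtension a) : SplitBy P'.toExtension (algebraMap B B' a) := by
  obtain ⟨s, hs⟩ := h
  let s' : P'.toExtension.CotangentSpace →ₗ[B'] P'.toExtension.Cotangent :=
    P'.cotangentSpaceBasis.constr B' (fun i => Extension.Cotangent.map g (s (P.cotangentSpaceBasis i)))
  have hb : ∀ i, Extension.CotangentSpace.map g (P.cotangentSpaceBasis i) = P'.cotangentSpaceBasis i := by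
    intro i
    rw [Generators.cotangentSpaceBasis_apply, Generators.cotangentSpaceBasis_apply]
    refine (Extension.CotangentSpace.map_tmul g 1 (MvPolynomial.X i : P.Ring)).trans ?_
    rw [map_one]
    congr 2
    exact hX i
  have h1 : ∀ z, s' (Extension.CotangentSpace.map g z) = Extension.Cotangent.map g (s z) := by
    intro z
    have : (s'.restrictScalars B) ∘ₗ Extension.CotangentSpace.map g = Extension.Cotangent.map g ∘ₗ s := by
      refine P.cotangentSpaceBasis.ext fun i => ?_
      rw [LinearMap.comp_apply, LinearMap.comp_apply, LinearMap.restrictScalars_apply, hb]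
      exact P'.cotangentSpaceBasis.constr_basis B' _ i
    exact LinearMap.congr_fun this z
  refine ⟨s', ?_⟩
  refine LinearMap.ext fun y => ?_
  have hy : y ∈ Submodule.span B' (Set.range (Extension.Cotangent.map g)) := by rw [hspan]; trivial
  induction hy using Submodule.span_induction with
  | zero => rw [map_zero, map_zero]
  | add y y' _ _ h h' => rw [map_add, map_add, h, h']
  | smul b y _ h => rw [map_smul, map_smul, h]
  | mem y hy =>
    obtain ⟨x, rfl⟩ := hy
    rw [LinearMap.comp_apply, ← Extension.CotangentSpace.map_cotangentComplex, h1]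
    have h2 := LinearMap.congr_fun hs x
    simp only [LinearMap.comp_apply, LinearMap.smul_apply, LinearMap.id_apply] at h2 ⊢
    rw [h2, map_smul, algebraMap_smul]

set_option backward.isDefEq.respectTransparency false in
theorem algebraMap_ext (P : Generators A B ι) (x : P.toExtension.Ring) :
    algebraMap P.toExtension.Ring B x = MvPolynomial.aeval P.val x := P.algebraMap_apply x

/-- The generators of a quotient. -/
def quotGen (P : Generators A B ι) (hB : Function.Surjective (algebraMap B B')) : Generators A' B' ι :=
  Generators.ofSurjective (fun i => algebraMap B B' (P.val i)) (by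
    intro b'
    obtain ⟨b, rfl⟩ := hB b'
    obtain ⟨f, rfl⟩ := P.algebraMap_surjective b
    refine ⟨MvPolynomial.map (algebraMap A A') f, ?_⟩
    rw [MvPolynomial.aeval_map_algebraMap]
    have : (MvPolynomial.aeval (fun i => algebraMap B B' (P.val i)) : MvPolynomial ι A →ₐ[A] B') =
        (IsScalarTower.toAlgHom A B B').comp (MvPolynomial.aeval P.val) := by
      ext i; simp
    rw [this, AlgHom.comp_apply]
    exact congrArg (algebraMap B B') (algebraMap_ext P f).symm)

theorem aeval_map (P : Generators A B ι) (hB : Function.Surjective (algebraMap B B')) (f : MvPolynomial ι A) :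
    MvPolynomial.aeval (quotGen (A' := A') P hB).val (MvPolynomial.map (algebraMap A A') f) =
      algebraMap B B' (MvPolynomial.aeval P.val f) := by
  rw [MvPolynomial.aeval_map_algebraMap]
  have : (MvPolynomial.aeval (fun i => algebraMap B B' (P.val i)) : MvPolynomial ι A →ₐ[A] B') =
      (IsScalarTower.toAlgHom A B B').comp (MvPolynomial.aeval P.val) := by
    ext i; simp
  exact DFunLike.congr_fun this f

/-- The comparison morphism. -/
def quotHom (P : Generators A B ι) (hB : Function.Surjective (algebraMap B B')) :
    P.toExtension.Hom (quotGen (A' := A') P hB).toExtension where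
  toRingHom := MvPolynomial.map (algebraMap A A')
  toRingHom_algebraMap x := MvPolynomial.map_C _ _
  algebraMap_toRingHom x := by
    have := aeval_map (A' := A') P hB x
    exact (algebraMap_ext _ _).trans (this.trans (congrArg (algebraMap B B') (algebraMap_ext P x).symm))

theorem quotHom_cotangent_surjective (P : Generators A B ι) (hA : Function.Surjective (algebraMap A A'))
    (hB : Function.Surjective (algebraMap B B'))
    (hker : ∀ b : B, algebraMap B B' b = 0 → ∃ (a : A) (c : B), algebraMap A A' a = 0 ∧ b = algebraMap A B a * c) :
    Function.Surjective (Extension.Cotangent.map (quotHom (A' := A') P hB)) := by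
  intro y
  obtain ⟨⟨f', hf'⟩, rfl⟩ := Extension.Cotangent.mk_surjective y
  obtain ⟨f, rfl⟩ := MvPolynomial.map_surjective (algebraMap A A') hA f'
  have h1 : algebraMap B B' (MvPolynomial.aeval P.val f) = 0 := by
    rw [← aeval_map (A' := A') P hB]
    exact (algebraMap_ext _ _).symm.trans hf'
  obtain ⟨a, c, ha, hc⟩ := hker _ h1
  obtain ⟨h, hh⟩ : ∃ h : MvPolynomial ι A, MvPolynomial.aeval P.val h = c := by
    obtain ⟨h, hh⟩ := P.algebraMap_surjective c
    exact ⟨h, (algebraMap_ext P h).symm.trans hh⟩
  have h3 : MvPolynomial.aeval P.val (f - MvPolynomial.C a * h) = 0 := by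
    rw [map_sub, map_mul, MvPolynomial.aeval_C, hc, hh, sub_self]
  have h2 : f - MvPolynomial.C a * h ∈ P.toExtension.ker := (algebraMap_ext P (f - MvPolynomial.C a * h)).trans h3
  refine ⟨Extension.Cotangent.mk ⟨_, h2⟩, ?_⟩
  rw [Extension.Cotangent.map_mk]
  congr 1
  apply Subtype.ext
  change MvPolynomial.map (algebraMap A A') (f - MvPolynomial.C a * h) = MvPolynomial.map (algebraMap A A') f
  rw [map_sub, map_mul, MvPolynomial.map_C, ha, map_zero, zero_mul, sub_zero]

theorem push_quot (P : Generators A B ι) (hA : Function.Surjective (algebraMap A A'))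
    (hB : Function.Surjective (algebraMap B B'))
    (hker : ∀ b : B, algebraMap B B' b = 0 → ∃ (a : A) (c : B), algebraMap A A' a = 0 ∧ b = algebraMap A B a * c)
    {a : B} (h : SplitBy P.toExtension a) :
    SplitBy (quotGen (A' := A') P hB).toExtension (algebraMap B B' a) := by
  refine push P _ (quotHom P hB) (fun i => MvPolynomial.map_X _ _) ?_ h
  rw [Set.range_eq_univ.2 (quotHom_cotangent_surjective P hA hB hker), Submodule.span_univ]

end K96.Push
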