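import Groth.Agent.DefT.K694.Basic
import Mathlib.RingTheory.Derivation.ToSquareZero

/-!
# Lifting along square-zero extensions with kernel `B₀` for a rigid algebra
-/

set_option autoImplicit false
universe u

open TensorProduct Algebra

noncomputable section

namespace K96.Rigid

variable {k B₀ : Type u} [CommRing k] [CommRing B₀] [Algebra k B₀]

/-- A linear map from the conormal module. -/
theorem exists_cotangent_lift (E : Extension.{u} k B₀) {N : Type u} [AddCommGroup N] [Module B₀ N]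
    (h : E.ker → N) (hadd : ∀ x y, h (x + y) = h x + h y)
    (hsmul : ∀ (r : E.Ring) (x : E.ker), h (r • x) = algebraMap E.Ring B₀ r • h x) :
    ∃ θ : E.Cotangent →ₗ[B₀] N, ∀ x, θ (Extension.Cotangent.mk x) = h x := by
  let _ : Module E.Ring N := Module.compHom N (algebraMap E.Ring B₀)
  have _ : IsScalarTower E.Ring B₀ N := IsScalarTower.of_compHom E.Ring B₀ N
  let h' : E.ker →ₗ[E.Ring] N :=
    { toFun := h
      map_add' := hadd
      map_smul' := fun r x => hsmul r x }
  have hle : (E.ker • ⊤ : Submodule E.Ring E.ker) ≤ LinearMap.ker h' := by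
    rw [Submodule.smul_le]
    intro r hr x _
    rw [LinearMap.mem_ker, map_smul]
    change algebraMap E.Ring B₀ r • h' x = 0
    rw [show algebraMap E.Ring B₀ r = 0 from hr, zero_smul]
  let θ' : E.ker.Cotangent →ₗ[E.Ring] N := Submodule.liftQ _ h' hle
  let e : E.Cotangent ≃ₗ[E.Ring] E.ker.Cotangent :=
    { __ := AddEquiv.refl _, map_smul' := Extension.Cotangent.val_smul' }
  refine ⟨(θ' ∘ₗ e.toLinearMap).extendScalarsOfSurjective E.algebraMap_surjective, fun x => ?_⟩
  rfl

theorem exists_lift_ext (E : Extension.{u} k B₀)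
    (hE : ∀ θ : E.Cotangent →ₗ[B₀] B₀, ∃ ψ : E.CotangentSpace →ₗ[B₀] B₀, ψ ∘ₗ E.cotangentComplex = θ)
    {C C' : Type u} [CommRing C] [CommRing C'] [Algebra k C] [Algebra k C'] (p : C →ₐ[k] C')
    (hK : (RingHom.ker p) ^ 2 = ⊥) (f : B₀ →ₐ[k] C') (φ : RingHom.ker p ≃+ B₀)
    (hφ : ∀ (c : C) (b : B₀) (x : RingHom.ker p), p c = f b → φ (c • x) = b * φ x)
    (ρ : E.Ring →ₐ[k] C) (hρ : ∀ x, p (ρ x) = f (algebraMap E.Ring B₀ x)) :
    ∃ g : B₀ →ₐ[k] C, p.comp g = f := by
  let π : E.Ring →ₐ[k] B₀ := IsScalarTower.toAlgHom k E.Ring B₀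
  have hπs : Function.Surjective π := E.algebraMap_surjective
  have hmem : ∀ x : E.ker, ρ x.1 ∈ RingHom.ker p := by
    intro x
    rw [RingHom.mem_ker, hρ, show algebraMap E.Ring B₀ x.1 = 0 from x.2, map_zero]
  obtain ⟨θ, hθ⟩ := exists_cotangent_lift E (N := B₀) (fun x => φ ⟨ρ x.1, hmem x⟩) (by
      intro x y
      rw [← map_add]
      congr 1
      apply Subtype.ext
      exact map_add ρ x.1 y.1) (by
      intro r x
      have h1 := hφ (ρ r) (algebraMap E.Ring B₀ r) ⟨ρ x.1, hmem x⟩ (hρ r)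
      rw [smul_eq_mul, ← h1]
      congr 1
      apply Subtype.ext
      exact map_mul ρ r x.1)
  obtain ⟨ψ, hψ⟩ := hE θ
  let _ : Algebra E.Ring C := ρ.toAlgebra
  have _ : IsScalarTower k E.Ring C := IsScalarTower.of_algebraMap_eq' ρ.comp_algebraMap.symm
  let d : E.Ring → B₀ := fun x => ψ ((1 : B₀) ⊗ₜ[E.Ring] KaehlerDifferential.D k E.Ring x)
  have hdadd : ∀ x y, d (x + y) = d x + d y := by
    intro x y
    simp only [d]
    rw [map_add (KaehlerDifferential.D k E.Ring), TensorProduct.tmul_add, map_add]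
  have hdmul : ∀ x y, d (x * y) = π x * d y + π y * d x := by
    intro x y
    have h1 : (1 : B₀) ⊗ₜ[E.Ring] KaehlerDifferential.D k E.Ring (x * y) =
        π x • ((1 : B₀) ⊗ₜ[E.Ring] KaehlerDifferential.D k E.Ring y) +
        π y • ((1 : B₀) ⊗ₜ[E.Ring] KaehlerDifferential.D k E.Ring x) := by
      have := (KaehlerDifferential.D k E.Ring).leibniz x y
      rw [this, TensorProduct.tmul_add, TensorProduct.tmul_smul, TensorProduct.tmul_smul]
      simp only [π, IsScalarTower.coe_toAlgHom', algebraMap_smul]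
    simp only [d]
    rw [h1, map_add, map_smul, map_smul, smul_eq_mul, smul_eq_mul]
  have hdk : ∀ c : k, d (algebraMap k E.Ring c) = 0 := by
    intro c
    simp only [d]
    rw [(KaehlerDifferential.D k E.Ring).map_algebraMap c, TensorProduct.tmul_zero, map_zero]
  have hφs : ∀ (x : E.Ring) (b : B₀), φ.symm (π x * b) = ρ x • φ.symm b := by
    intro x b
    rw [AddEquiv.symm_apply_eq, hφ (ρ x) (π x) _ (hρ x), AddEquiv.apply_symm_apply]
  let D : Derivation k E.Ring (RingHom.ker p) := Derivation.mk'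
    { toFun := fun x => -φ.symm (d x)
      map_add' := fun x y => by rw [hdadd, map_add, neg_add]
      map_smul' := fun c x => by
        rw [Algebra.smul_def, hdmul, hdk, mul_zero, add_zero, hφs, AlgHom.commutes, algebraMap_smul, RingHom.id_apply,
          smul_neg] } (fun x y => by
        change -φ.symm (d (x * y)) = ρ x • (-φ.symm (d y)) + ρ y • (-φ.symm (d x))
        rw [hdmul, map_add, hφs, hφs, neg_add, smul_neg, smul_neg])
  let g' : E.Ring →ₐ[k] C := liftOfDerivationToSquareZero (RingHom.ker p) hK D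
  have hg' : ∀ x, g' x = ρ x - (φ.symm (d x) : C) := by
    intro x
    have := liftOfDerivationToSquareZero_apply (RingHom.ker p) hK D x
    change liftOfDerivationToSquareZero (RingHom.ker p) hK D x = _
    rw [this]
    change ((-φ.symm (d x) : RingHom.ker p) : C) + ρ x = _
    rw [Submodule.coe_neg]
    ring
  have hker : ∀ x, π x = 0 → g' x = 0 := by
    intro x hx
    have hx' : x ∈ E.ker := hx
    have h1 := LinearMap.congr_fun hψ (Extension.Cotangent.mk ⟨x, hx'⟩)
    rw [hθ, LinearMap.comp_apply, Extension.cotangentComplex_mk] at h1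
    have h2 : d x = φ ⟨ρ x, hmem ⟨x, hx'⟩⟩ := h1
    rw [hg', h2, AddEquiv.symm_apply_apply, sub_self]
  let g : B₀ →ₐ[k] C := (Ideal.Quotient.liftₐ (RingHom.ker π) g' (fun x hx => hker x hx)).comp
    (Ideal.quotientKerAlgEquivOfSurjective hπs).symm.toAlgHom
  refine ⟨g, AlgHom.ext fun b => ?_⟩
  obtain ⟨x, rfl⟩ := hπs b
  have h1 : (Ideal.quotientKerAlgEquivOfSurjective hπs).symm (π x) = Ideal.Quotient.mk _ x := by
    rw [AlgEquiv.symm_apply_eq]
    rfl
  have h2 : g (π x) = g' x := by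
    change Ideal.Quotient.liftₐ (RingHom.ker π) g' (fun x hx => hker x hx)
      ((Ideal.quotientKerAlgEquivOfSurjective hπs).symm (π x)) = _
    rw [h1]
    rfl
  rw [AlgHom.comp_apply, h2, hg', map_sub, hρ, show p (φ.symm (d x) : C) = 0 from (φ.symm (d x)).2, sub_zero]
  rfl

theorem exists_lift (hrigid : Subsingleton (CotT.T1 (CotT.canon k B₀) B₀))
    {C C' : Type u} [CommRing C] [CommRing C'] [Algebra k C] [Algebra k C'] (p : C →ₐ[k] C')
    (hp : Function.Surjective p) (hK : (RingHom.ker p) ^ 2 = ⊥) (f : B₀ →ₐ[k] C') (φ : RingHom.ker p ≃+ B₀)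
    (hφ : ∀ (c : C) (b : B₀) (x : RingHom.ker p), p c = f b → φ (c • x) = b * φ x) :
    ∃ g : B₀ →ₐ[k] C, p.comp g = f := by
  let ρ : MvPolynomial B₀ k →ₐ[k] C := MvPolynomial.aeval (fun b => Function.surjInv hp (f b))
  refine exists_lift_ext (CotT.canon k B₀).toExtension ?_ p hK f φ hφ ρ ?_
  · intro θ
    have h0 : CotT.homToT1 (CotT.canon k B₀) B₀ θ = 0 := hrigid.elim _ _
    rwa [K694.Basic.homToT1_eq_zero_iff] at h0
  · intro x
    have h1 : p.comp ρ = f.comp (MvPolynomial.aeval id) := by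
      ext b
      simp [ρ, Function.surjInv_eq]
    refine (DFunLike.congr_fun h1 x).trans ?_
    exact congrArg f (CotT.algebraMap_toExtension (CotT.canon k B₀) x).symm

end K96.Rigid
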