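import Groth.Agent.CotT.K96.Rigid
import Mathlib.RingTheory.Ideal.Quotient.Operations

/-!
# Sections of the infinitesimal neighbourhoods of a rigid special fibre
-/

set_option autoImplicit false
universe u

open TensorProduct Algebra

noncomputable section

namespace K96.Section

variable {k B₀ B : Type u} [CommRing k] [CommRing B₀] [Algebra k B₀] [CommRing B] [Algebra k B] {τ : B}

theorem mem_span_pow (n : ℕ) (b : B) : b ∈ Ideal.span {τ ^ n} ↔ ∃ c, b = τ ^ n * c := by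
  rw [Ideal.mem_span_singleton']
  constructor
  · rintro ⟨c, rfl⟩; exact ⟨c, mul_comm _ _⟩
  · rintro ⟨c, rfl⟩; exact ⟨c, mul_comm _ _⟩

theorem span_le (n : ℕ) : Ideal.span {τ ^ (n + 1)} ≤ Ideal.span {τ ^ n} := by
  rw [Ideal.span_singleton_le_span_singleton]
  exact pow_dvd_pow τ (Nat.le_succ n)

/-- the projection `B/τ^{n+1} → B/τ^n` -/
def proj (k : Type u) [CommRing k] [Algebra k B] (τ : B) (n : ℕ) :
    (B ⧸ Ideal.span {τ ^ (n + 1)}) →ₐ[k] (B ⧸ Ideal.span {τ ^ n}) :=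
  Ideal.Quotient.factorₐ k (span_le n)

theorem proj_mk (n : ℕ) (b : B) : proj k τ n (Ideal.Quotient.mk _ b) = Ideal.Quotient.mk _ b := rfl

theorem proj_surjective (n : ℕ) : Function.Surjective (proj k τ n) := by
  intro x
  obtain ⟨b, rfl⟩ := Ideal.Quotient.mk_surjective x
  exact ⟨Ideal.Quotient.mk _ b, rfl⟩

theorem mem_ker_proj (n : ℕ) (x : B ⧸ Ideal.span {τ ^ (n + 1)}) :
    x ∈ RingHom.ker (proj k τ n) ↔ ∃ c, x = Ideal.Quotient.mk _ (τ ^ n * c) := by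
  constructor
  · intro hx
    obtain ⟨b, rfl⟩ := Ideal.Quotient.mk_surjective x
    rw [RingHom.mem_ker, proj_mk, Ideal.Quotient.eq_zero_iff_mem, mem_span_pow] at hx
    obtain ⟨c, rfl⟩ := hx
    exact ⟨c, rfl⟩
  · rintro ⟨c, rfl⟩
    rw [RingHom.mem_ker, proj_mk, Ideal.Quotient.eq_zero_iff_mem, mem_span_pow]
    exact ⟨c, rfl⟩

theorem ker_sq (n : ℕ) (hn : 1 ≤ n) : (RingHom.ker (proj k τ n)) ^ 2 = ⊥ := by
  rw [eq_bot_iff, pow_two, Ideal.mul_le]
  intro x hx y hy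
  obtain ⟨c, rfl⟩ := (mem_ker_proj n x).1 hx
  obtain ⟨c', rfl⟩ := (mem_ker_proj n y).1 hy
  rw [Ideal.mem_bot, ← map_mul, Ideal.Quotient.eq_zero_iff_mem, mem_span_pow]
  obtain ⟨m, rfl⟩ := Nat.exists_eq_add_of_le hn
  exact ⟨τ ^ m * (c * c'), by ring⟩

/-- `B/τ ≃ τ^n B/τ^{n+1} B` -/
theorem exists_kerEquiv (hτ : IsSMulRegular B τ) (n : ℕ) :
    ∃ E : (B ⧸ Ideal.span {τ}) ≃+ RingHom.ker (proj k τ n),
      ∀ b : B, (E (Ideal.Quotient.mk _ b) : B ⧸ Ideal.span {τ ^ (n + 1)}) = Ideal.Quotient.mk _ (τ ^ n * b) := by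
  let μ₀ : B →+ RingHom.ker (proj k τ n) :=
    { toFun := fun b => ⟨Ideal.Quotient.mk _ (τ ^ n * b), (mem_ker_proj n _).2 ⟨b, rfl⟩⟩
      map_zero' := Subtype.ext (by simp)
      map_add' := fun x y => Subtype.ext (by simp [mul_add]) }
  have hμ : ∀ b ∈ (Ideal.span {τ}).toAddSubgroup, μ₀ b = 0 := by
    intro b hb
    have hb' : b ∈ Ideal.span {τ} := hb
    rw [Ideal.mem_span_singleton'] at hb'
    obtain ⟨c, rfl⟩ := hb'
    apply Subtype.ext
    change Ideal.Quotient.mk _ (τ ^ n * (c * τ)) = 0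
    rw [Ideal.Quotient.eq_zero_iff_mem, mem_span_pow]
    exact ⟨c, by ring⟩
  let μ : (B ⧸ Ideal.span {τ}) →+ RingHom.ker (proj k τ n) := QuotientAddGroup.lift _ μ₀ hμ
  have hμmk : ∀ b, μ (Ideal.Quotient.mk _ b) = μ₀ b := fun b => rfl
  refine ⟨AddEquiv.ofBijective μ ⟨?_, ?_⟩, fun b => rfl⟩
  · rw [injective_iff_map_eq_zero]
    intro x hx
    obtain ⟨b, rfl⟩ := Ideal.Quotient.mk_surjective x
    rw [hμmk] at hx
    have h1 : Ideal.Quotient.mk (Ideal.span {τ ^ (n + 1)}) (τ ^ n * b) = 0 := congrArg Subtype.val hx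
    rw [Ideal.Quotient.eq_zero_iff_mem, mem_span_pow] at h1
    obtain ⟨c, hc⟩ := h1
    rw [Ideal.Quotient.eq_zero_iff_mem, Ideal.mem_span_singleton']
    refine ⟨c, ?_⟩
    have h2 : τ ^ n • (c * τ) = τ ^ n • b := by
      rw [smul_eq_mul, smul_eq_mul, hc]; ring
    exact (hτ.pow n) h2
  · rintro ⟨x, hx⟩
    obtain ⟨c, rfl⟩ := (mem_ker_proj n x).1 hx
    exact ⟨Ideal.Quotient.mk _ c, rfl⟩

theorem exists_section (hrigid : Subsingleton (CotT.T1 (CotT.canon k B₀) B₀)) (hτ : IsSMulRegular B τ)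
    (e : (B ⧸ Ideal.span {τ}) ≃ₐ[k] B₀) (n : ℕ) :
    ∃ σ : B₀ →ₐ[k] B ⧸ Ideal.span {τ ^ (n + 1)}, ∀ (b₀ : B₀) (b : B), Ideal.Quotient.mk _ b = σ b₀ →
      e (Ideal.Quotient.mk _ b) = b₀ := by
  induction n with
  | zero =>
    have h1 : Ideal.span {τ} = Ideal.span {τ ^ (0 + 1)} := by rw [zero_add, pow_one]
    refine ⟨(Ideal.quotientEquivAlgOfEq k h1).toAlgHom.comp e.symm.toAlgHom, fun b₀ b hb => ?_⟩
    have h2 : Ideal.quotientEquivAlgOfEq k h1 (Ideal.Quotient.mk _ b) = Ideal.quotientEquivAlgOfEq k h1 (e.symm b₀) := hb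
    rw [(Ideal.quotientEquivAlgOfEq k h1).injective h2, AlgEquiv.apply_symm_apply]
  | succ n ih =>
    obtain ⟨σ, hσ⟩ := ih
    obtain ⟨E, hE⟩ := exists_kerEquiv (k := k) hτ (n + 1)
    obtain ⟨g, hg⟩ := K96.Rigid.exists_lift hrigid (proj k τ (n + 1)) (proj_surjective _) (ker_sq _ (by omega)) σ
      (E.symm.trans e.toAddEquiv) (by
        intro c b x hc
        obtain ⟨c, rfl⟩ := Ideal.Quotient.mk_surjective c
        obtain ⟨y, rfl⟩ := E.surjective x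
        obtain ⟨y, rfl⟩ := Ideal.Quotient.mk_surjective y
        have h1 : (Ideal.Quotient.mk (Ideal.span {τ ^ (n + 1 + 1)}) c) • E (Ideal.Quotient.mk _ y) =
            E (Ideal.Quotient.mk _ (c * y)) := by
          apply Subtype.ext
          rw [Submodule.coe_smul, hE, hE, smul_eq_mul, ← map_mul]
          congr 1
          ring
        rw [h1, AddEquiv.trans_apply, AddEquiv.trans_apply, AddEquiv.symm_apply_apply, AddEquiv.symm_apply_apply]
        change e (Ideal.Quotient.mk _ (c * y)) = b * e (Ideal.Quotient.mk _ y)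
        rw [map_mul, map_mul, hσ b c hc])
    refine ⟨g, fun b₀ b hb => hσ b₀ b ?_⟩
    rw [← hg, AlgHom.comp_apply, ← hb, proj_mk]

end K96.Section
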