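import Groth.Agent.DefT.K694.Basic
import Mathlib.RingTheory.Smooth.Locus
import Mathlib.Algebra.Module.LocalizedModule.Exact

/-!
# Multiplication by a scalar factoring through the cotangent complex

`SplitBy P a`: multiplication by `a` on `I/I²` factors through `I/I² → B ⊗ Ω_{P/A}`.
* independence of the extension (`SplitBy.transfer`)
* relation with `T¹` (`smul_T1_eq_zero`, `splitBy_of_T1`)
* relation with smoothness of `B[1/t]` (`formallySmooth_of_splitBy_pow`, `exists_splitBy_pow`)
-/

set_option autoImplicit false
universe u v w w' t m

open TensorProduct Algebra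

noncomputable section

namespace K96.Split

variable {A : Type u} {B : Type v} [CommRing A] [CommRing B] [Algebra A B]

/-- multiplication by `a` on the conormal module factors through the cotangent complex -/
def SplitBy (P : Extension.{w} A B) (a : B) : Prop :=
  ∃ s : P.CotangentSpace →ₗ[B] P.Cotangent, s ∘ₗ P.cotangentComplex = a • LinearMap.id

theorem SplitBy.mul {P : Extension.{w} A B} {a : B} (h : SplitBy P a) (b : B) : SplitBy P (b * a) := by
  obtain ⟨s, hs⟩ := h
  exact ⟨b • s, by rw [LinearMap.smul_comp, hs, mul_smul]⟩

theorem SplitBy.transfer {P : Extension.{w} A B} {P' : Extension.{w'} A B} {a : B} (h : SplitBy P a)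
    (f : P'.Hom P) (g : P.Hom P') : SplitBy P' a := by
  obtain ⟨s, hs⟩ := h
  refine ⟨Extension.Cotangent.map g ∘ₗ s ∘ₗ Extension.CotangentSpace.map f +
    a • (Extension.Hom.id P').sub (g.comp f), ?_⟩
  refine LinearMap.ext fun x => ?_
  have h1 : (Extension.Hom.id P').sub (g.comp f) (P'.cotangentComplex x) =
      x - Extension.Cotangent.map g (Extension.Cotangent.map f x) := by
    have := LinearMap.congr_fun (Extension.Cotangent.map_sub_map (Extension.Hom.id P') (g.comp f)) x
    rw [LinearMap.comp_apply] at this
    rw [← this, LinearMap.sub_apply, Extension.Cotangent.map_comp, Extension.Cotangent.map_id]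
    rfl
  have h2 : s (Extension.CotangentSpace.map f (P'.cotangentComplex x)) = a • Extension.Cotangent.map f x := by
    rw [Extension.CotangentSpace.map_cotangentComplex]
    exact LinearMap.congr_fun hs _
  simp only [LinearMap.comp_apply, LinearMap.add_apply, LinearMap.smul_apply, LinearMap.id_apply]
  rw [h1, h2, map_smul, smul_sub]
  abel

section T1

variable {ι : Type w} {σ : Type t} (P : Algebra.Presentation A B ι σ)

theorem smul_T1_eq_zero {a : B} (h : SplitBy P.toExtension a) (M : Type m) [AddCommGroup M] [Module B M]
    (x : CotT.T1 P M) : a • x = 0 := by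
  obtain ⟨φ, rfl⟩ := K694.Basic.homToT1_surjective P M x
  obtain ⟨s, hs⟩ := h
  rw [← map_smul, K694.Basic.homToT1_eq_zero_iff]
  refine ⟨φ ∘ₗ s, ?_⟩
  rw [LinearMap.comp_assoc, hs]
  ext y
  simp

theorem splitBy_of_T1 {a : B} (E : Extension.{w'} A B) (f : E.Hom P.toExtension) (g : P.toExtension.Hom E)
    (h : ∀ x : CotT.T1 P E.Cotangent, a • x = 0) : SplitBy E a := by
  have h1 := h (CotT.homToT1 P E.Cotangent (Extension.Cotangent.map g))
  rw [← map_smul, K694.Basic.homToT1_eq_zero_iff] at h1
  obtain ⟨ψ, hψ⟩ := h1
  refine ⟨ψ ∘ₗ Extension.CotangentSpace.map f + a • (Extension.Hom.id E).sub (g.comp f), ?_⟩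
  refine LinearMap.ext fun x => ?_
  have h1 : (Extension.Hom.id E).sub (g.comp f) (E.cotangentComplex x) =
      x - Extension.Cotangent.map g (Extension.Cotangent.map f x) := by
    have := LinearMap.congr_fun (Extension.Cotangent.map_sub_map (Extension.Hom.id E) (g.comp f)) x
    rw [LinearMap.comp_apply] at this
    rw [← this, LinearMap.sub_apply, Extension.Cotangent.map_comp, Extension.Cotangent.map_id]
    rfl
  have h2 : ψ (Extension.CotangentSpace.map f (E.cotangentComplex x)) =
      a • Extension.Cotangent.map g (Extension.Cotangent.map f x) := by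
    rw [Extension.CotangentSpace.map_cotangentComplex]
    exact LinearMap.congr_fun hψ _
  simp only [LinearMap.comp_apply, LinearMap.add_apply, LinearMap.smul_apply, LinearMap.id_apply]
  rw [h1, h2, smul_sub]
  abel

end T1

section Smooth

set_option backward.isDefEq.respectTransparency false in
theorem exists_retraction {R : Type*} [CommRing R] (S : Submonoid R) {M N P : Type*} [AddCommGroup M] [Module R M]
    [AddCommGroup N] [Module R N] [AddCommGroup P] [Module R P] (f : M →ₗ[R] N) (g : N →ₗ[R] P)
    (hex : Function.Exact (LocalizedModule.map S f) (LocalizedModule.map S g))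
    (hinj : Function.Injective (LocalizedModule.map S f)) (hsurj : Function.Surjective (LocalizedModule.map S g))
    (h : ∃ l, LocalizedModule.map S g ∘ₗ l = LinearMap.id) :
    ∃ l, l ∘ₗ LocalizedModule.map S f = LinearMap.id :=
  ((Function.Exact.split_tfae (R := Localization S) (M := LocalizedModule S M) (N := LocalizedModule S N)
    (P := LocalizedModule S P) (f := LocalizedModule.map S f) (g := LocalizedModule.map S g) hex hinj hsurj).out 0 1).1 h

/-- If `tⁿ` splits the cotangent complex, then `B[1/t]` is formally smooth over `A`. -/
theorem formallySmooth_of_splitBy_pow (P : Extension.{w} A B) [FormallySmooth A P.Ring] (t : B) (n : ℕ)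
    (h : SplitBy P (t ^ n)) : FormallySmooth A (Localization.Away t) := by
  obtain ⟨s, hs⟩ := h
  rw [Algebra.formallySmooth_iff]
  constructor
  · -- Ω
    let p : P.CotangentSpace →ₗ[B] P.CotangentSpace := t ^ n • LinearMap.id - P.cotangentComplex ∘ₗ s
    have hp : p ∘ₗ P.cotangentComplex = 0 := by
      refine LinearMap.ext fun x => ?_
      have := LinearMap.congr_fun hs x
      simp only [LinearMap.comp_apply, LinearMap.smul_apply, LinearMap.id_apply] at this
      simp only [p, LinearMap.comp_apply, LinearMap.sub_apply, LinearMap.smul_apply, LinearMap.id_apply, this,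
        map_smul, sub_self, LinearMap.zero_apply]
    have hle : LinearMap.ker P.toKaehler ≤ LinearMap.ker p := by
      rw [P.exact_cotangentComplex_toKaehler.linearMap_ker_eq]
      rintro _ ⟨w, rfl⟩
      exact DFunLike.congr_fun hp w
    let p' : Ω[B⁄A] →ₗ[B] P.CotangentSpace := (Submodule.liftQ _ p hle) ∘ₗ
      ((P.toKaehler).quotKerEquivOfSurjective P.toKaehler_surjective).symm.toLinearMap
    have hp' : ∀ z, p' (P.toKaehler z) = p z := by
      intro z
      have : ((P.toKaehler).quotKerEquivOfSurjective P.toKaehler_surjective).symm
          (P.toKaehler z) = Submodule.Quotient.mk z := by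
        rw [LinearEquiv.symm_apply_eq]
        rfl
      simp only [p', LinearMap.comp_apply, LinearEquiv.coe_coe, this]
      rfl
    have hsec : P.toKaehler ∘ₗ p' = t ^ n • LinearMap.id := by
      refine LinearMap.ext fun y => ?_
      obtain ⟨z, rfl⟩ := P.toKaehler_surjective y
      rw [LinearMap.comp_apply, hp']
      have : P.toKaehler (P.cotangentComplex (s z)) = 0 := P.exact_cotangentComplex_toKaehler.apply_apply_eq_zero _
      simp only [p, LinearMap.sub_apply, LinearMap.smul_apply, LinearMap.id_apply, LinearMap.comp_apply, map_sub,
        map_smul, this, sub_zero]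
    let L := Localization.Away t
    have hu : IsUnit (algebraMap B L (t ^ n)) := by
      rw [map_pow]
      exact (IsLocalization.Away.algebraMap_isUnit (S := L) t).pow n
    obtain ⟨c, hc⟩ := hu.exists_left_inv
    have hproj : Module.Projective L (L ⊗[B] P.CotangentSpace) := inferInstance
    have hproj2 : Module.Projective L (L ⊗[B] Ω[B⁄A]) := by
      refine Module.Projective.of_split (p'.baseChange L) (c • P.toKaehler.baseChange L) ?_
      have : P.toKaehler.baseChange L ∘ₗ p'.baseChange L = algebraMap B L (t ^ n) • LinearMap.id := by
        rw [← LinearMap.baseChange_comp, hsec, LinearMap.baseChange_smul, LinearMap.baseChange_id]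
        refine LinearMap.ext fun x => ?_
        simp only [LinearMap.smul_apply, LinearMap.id_apply]
        exact (algebraMap_smul L (t ^ n) x).symm
      rw [LinearMap.smul_comp, this, smul_smul, hc, one_smul]
    have e := (KaehlerDifferential.isBaseChange_of_formallyEtale A B L).equiv
    exact Module.Projective.of_equiv e
  · -- H1
    have hk : ∀ x : Algebra.H1Cotangent A B, t ^ n • x = 0 := by
      intro x
      let e := P.equivH1CotangentOfFormallySmooth
      have : t ^ n • e.symm x = 0 := by
        apply Extension.h1Cotangentι_injective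
        rw [map_smul, map_zero]
        have h1 := LinearMap.congr_fun hs (e.symm x).1
        have h2 : P.cotangentComplex (e.symm x).1 = 0 := (e.symm x).2
        simp only [LinearMap.comp_apply, LinearMap.smul_apply, LinearMap.id_apply, h2, map_zero] at h1
        exact h1.symm
      rw [← e.symm.map_eq_zero_iff, map_smul, this]
    have := IsLocalizedModule.iso (.powers t) (Algebra.H1Cotangent.map A A B (Localization.Away t))
    rw [← this.subsingleton_congr]
    rw [LocalizedModule.subsingleton_iff]
    intro x
    exact ⟨t ^ n, ⟨n, rfl⟩, hk x⟩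

/-- If `B[1/t]` is formally smooth over `A` and the cotangent complex consists of finitely presented modules, then
some power of `t` splits it. -/
theorem exists_splitBy_pow (P : Extension.{w} A B) [FormallySmooth A P.Ring] [Module.FinitePresentation B P.Cotangent]
    [Module.FinitePresentation B P.CotangentSpace] (t : B) (h : FormallySmooth A (Localization.Away t)) :
    ∃ n : ℕ, SplitBy P (t ^ n) := by
  rw [Algebra.formallySmooth_iff] at h
  obtain ⟨hΩ, hH⟩ := h
  let S : Submonoid B := .powers t
  let L := Localization.Away t
  -- localized maps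
  let fC := LocalizedModule.mkLinearMap S P.Cotangent
  let fF := LocalizedModule.mkLinearMap S P.CotangentSpace
  let fO := LocalizedModule.mkLinearMap S (Ω[B⁄A])
  let fH := LocalizedModule.mkLinearMap S P.H1Cotangent
  let dL := LocalizedModule.map S P.cotangentComplex
  let pL := LocalizedModule.map S P.toKaehler
  have hex : Function.Exact dL pL := LocalizedModule.map_exact S _ _ P.exact_cotangentComplex_toKaehler
  have hH' : Subsingleton (LocalizedModule S P.H1Cotangent) := by
    have e := P.equivH1CotangentOfFormallySmooth
    have := IsLocalizedModule.iso (.powers t) (Algebra.H1Cotangent.map A A B (Localization.Away t))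
    have h1 : Subsingleton (LocalizedModule (.powers t) (Algebra.H1Cotangent A B)) := this.toEquiv.subsingleton
    rw [LocalizedModule.subsingleton_iff] at h1 ⊢
    intro x
    obtain ⟨r, hr, hx⟩ := h1 (e x)
    refine ⟨r, hr, ?_⟩
    rw [← e.map_eq_zero_iff, map_smul, hx]
  have hinj : Function.Injective dL := by
    have hex0 : Function.Exact (LocalizedModule.map S P.h1Cotangentι) dL :=
      LocalizedModule.map_exact S _ _ P.exact_hCotangentι_cotangentComplex
    rw [injective_iff_map_eq_zero]
    intro x hx
    obtain ⟨y, rfl⟩ := (hex0 x).1 hx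
    rw [Subsingleton.elim y 0, map_zero]
  have hsurj : Function.Surjective pL := LocalizedModule.map_surjective S _ P.toKaehler_surjective
  have hproj : Module.Projective L (LocalizedModule S (Ω[B⁄A])) := by
    have := IsLocalizedModule.iso (.powers t) (KaehlerDifferential.map A A B (Localization.Away t))
    have := this.extendScalarsOfIsLocalization (.powers t) (Localization.Away t)
    exact Module.Projective.of_equiv this.symm
  obtain ⟨l, hl⟩ : ∃ l : LocalizedModule S P.CotangentSpace →ₗ[Localization S] LocalizedModule S P.Cotangent,
      l ∘ₗ dL = LinearMap.id := by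
    exact exists_retraction S _ _ hex hinj hsurj (Module.projective_lifting_property pL LinearMap.id hsurj)
  obtain ⟨l', ⟨s, hs⟩, hl'⟩ := Module.FinitePresentation.exists_lift_of_isLocalizedModule S fC
    (l.restrictScalars B ∘ₗ fF)
  have hcomp : fC ∘ₗ (l' ∘ₗ P.cotangentComplex) = fC ∘ₗ (s • LinearMap.id) := by
    refine LinearMap.ext fun x => ?_
    have h1 : fC (l' (P.cotangentComplex x)) = s • l (fF (P.cotangentComplex x)) :=
      LinearMap.congr_fun hl' (P.cotangentComplex x)
    have h2 : fF (P.cotangentComplex x) = dL (fC x) := by
      exact (LocalizedModule.map_mk (S := S) P.cotangentComplex x 1).symm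
    have h3 : l (dL (fC x)) = fC x := LinearMap.congr_fun hl (fC x)
    rw [LinearMap.comp_apply, LinearMap.comp_apply, h1, h2, h3]
    simp
  obtain ⟨⟨c, hc⟩, hc'⟩ := Module.Finite.exists_smul_of_comp_eq_of_isLocalizedModule S fC _ _ hcomp
  obtain ⟨n, hn⟩ : c * s ∈ S := S.mul_mem hc hs
  refine ⟨n, c • l', ?_⟩
  rw [LinearMap.smul_comp]
  change t ^ n = c * s at hn
  rw [hn, mul_smul]
  exact hc'

end Smooth

end K96.Split
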