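import Groth.Agent.CotT.K96.Split
import Mathlib.RingTheory.FinitePresentation
import Mathlib.RingTheory.Smooth.Basic

/-!
# `T¹` and smoothness of `B[1/t]` for a finite type algebra over a Noetherian ring
-/

set_option autoImplicit false
universe u

open TensorProduct Algebra

noncomputable section

namespace K96.SplitFT

open K96.Split

variable (A B : Type u) [CommRing A] [CommRing B] [Algebra A B]

theorem exists_generators [Algebra.FiniteType A B] : ∃ n : ℕ, Nonempty (Algebra.Generators A B (Fin n)) := by
  obtain ⟨n, f, hf⟩ := Algebra.FiniteType.iff_quotient_mvPolynomial''.1 (inferInstance : Algebra.FiniteType A B)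
  refine ⟨n, ⟨Algebra.Generators.ofSurjective (fun i => f (MvPolynomial.X i)) ?_⟩⟩
  have : MvPolynomial.aeval (fun i => f (MvPolynomial.X i)) = f := by ext; simp
  rw [this]
  exact hf

variable {A B}

theorem finitePresentation_cotangent [IsNoetherianRing A] {n : ℕ} (P : Algebra.Generators A B (Fin n)) :
    Module.FinitePresentation B P.toExtension.Cotangent := by
  have : IsNoetherianRing P.toExtension.Ring := inferInstanceAs (IsNoetherianRing (MvPolynomial (Fin n) A))
  have hB : IsNoetherianRing B :=
    isNoetherianRing_of_surjective _ _ (algebraMap P.toExtension.Ring B) P.toExtension.algebraMap_surjective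
  have : Module.Finite B P.toExtension.Cotangent :=
    Algebra.Extension.Cotangent.finite (IsNoetherian.noetherian P.toExtension.ker)
  exact Module.finitePresentation_of_finite B _

theorem finitePresentation_cotangentSpace {n : ℕ} (P : Algebra.Generators A B (Fin n)) :
    Module.FinitePresentation B P.toExtension.CotangentSpace := by
  have : Module.Finite B P.toExtension.CotangentSpace := Module.Finite.of_basis P.cotangentSpaceBasis
  have : Module.Free B P.toExtension.CotangentSpace := Module.Free.of_basis P.cotangentSpaceBasis
  exact Module.finitePresentation_of_projective B _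

instance formallySmooth_ring {ι : Type*} (P : Algebra.Generators A B ι) :
    Algebra.FormallySmooth A P.toExtension.Ring := inferInstanceAs (Algebra.FormallySmooth A (MvPolynomial ι A))

/-- The key equivalence: `B[1/t]` smooth over `A` iff a power of `t` splits any finite type presentation. -/
theorem exists_splitBy_iff [IsNoetherianRing A] [Algebra.FiniteType A B] {n : ℕ} (P : Algebra.Generators A B (Fin n))
    (t : B) :
    (∀ q : PrimeSpectrum B, t ∉ q.asIdeal → q ∈ Algebra.smoothLocus A B) ↔
      ∃ m : ℕ, SplitBy P.toExtension (t ^ m) := by
  have hfp : Algebra.FinitePresentation A B := Algebra.FinitePresentation.of_finiteType.1 inferInstance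
  have h1 : (∀ q : PrimeSpectrum B, t ∉ q.asIdeal → q ∈ Algebra.smoothLocus A B) ↔
      ↑(PrimeSpectrum.basicOpen t) ⊆ Algebra.smoothLocus A B := Iff.rfl
  rw [h1, Algebra.basicOpen_subset_smoothLocus_iff]
  constructor
  · intro h
    have := finitePresentation_cotangent P
    have := finitePresentation_cotangentSpace P
    exact exists_splitBy_pow P.toExtension t h
  · rintro ⟨m, hm⟩
    exact formallySmooth_of_splitBy_pow P.toExtension t m hm

theorem splitBy_canon_of_splitBy {n : ℕ} (P : Algebra.Generators A B (Fin n)) {a : B}
    (h : SplitBy P.toExtension a) : SplitBy (CotT.canon A B).toExtension a :=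
  h.transfer ((CotT.canon A B).toGenerators.defaultHom P).toExtensionHom
    (P.defaultHom (CotT.canon A B).toGenerators).toExtensionHom

theorem splitBy_of_T1_finite [IsNoetherianRing A] {n : ℕ} (P : Algebra.Generators A B (Fin n)) {a : B}
    (h : ∀ (M : Type u) [AddCommGroup M] [Module B M] [Module.Finite B M],
      ∀ x : CotT.T1 (CotT.canon A B) M, a • x = 0) : SplitBy P.toExtension a := by
  have := finitePresentation_cotangent P
  exact splitBy_of_T1 (CotT.canon A B) P.toExtension
    (P.defaultHom (CotT.canon A B).toGenerators).toExtensionHom
    ((CotT.canon A B).toGenerators.defaultHom P).toExtensionHom (h _)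

end K96.SplitFT
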