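import Groth.Agent.CotT.K96.Section
import Groth.Agent.CotT.K96.Push
import Groth.Agent.CotT.K96.Descent
import Groth.Agent.CotT.K96.SplitFT

/-!
# Triviality of the infinitesimal deformations of a rigid algebra, and the conclusion
-/

set_option autoImplicit false
universe u

open TensorProduct Algebra

noncomputable section

namespace K96.Trivial

open K96.Section K96.Split

section

variable {k A B B₀ : Type u} [CommRing k] [CommRing A] [CommRing B] [CommRing B₀] [Algebra k A] [Algebra k B]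
  [Algebra k B₀] [Algebra A B] [IsScalarTower k A B] {t : A}

/-- `A/tⁿ → B/tⁿ` -/
def quotMap (k : Type u) [CommRing k] [Algebra k A] [Algebra k B] [IsScalarTower k A B] (t : A) (n : ℕ) :
    (A ⧸ Ideal.span {t ^ n}) →ₐ[k] (B ⧸ Ideal.span {(algebraMap A B t) ^ n}) :=
  Ideal.quotientMapₐ _ (IsScalarTower.toAlgHom k A B) (by
    rw [Ideal.span_le]
    intro x hx
    rw [Set.mem_singleton_iff] at hx
    subst hx
    change algebraMap A B (t ^ n) ∈ Ideal.span {(algebraMap A B t) ^ n}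
    rw [map_pow]
    exact Ideal.mem_span_singleton_self _)

theorem quotMap_mk (n : ℕ) (a : A) : quotMap (B := B) k t n (Ideal.Quotient.mk _ a) =
    Ideal.Quotient.mk _ (algebraMap A B a) := rfl

theorem quotMap_mk_pow (n j : ℕ) : quotMap (B := B) k t n (Ideal.Quotient.mk _ (t ^ j)) =
    Ideal.Quotient.mk _ ((algebraMap A B t) ^ j) :=
  (quotMap_mk n (t ^ j)).trans (congrArg (Ideal.Quotient.mk _) (map_pow (algebraMap A B) t j))

variable (n : ℕ) (σ : B₀ →ₐ[k] B ⧸ Ideal.span {(algebraMap A B t) ^ (n + 1)})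

/-- the comparison map `A/t^{n+1} ⊗ B₀ → B/t^{n+1}` -/
def rho : (A ⧸ Ideal.span {t ^ (n + 1)}) ⊗[k] B₀ →ₐ[k] (B ⧸ Ideal.span {(algebraMap A B t) ^ (n + 1)}) :=
  Algebra.TensorProduct.lift (quotMap k t (n + 1)) σ (fun _ _ => Commute.all _ _)

theorem rho_tmul (a : A ⧸ Ideal.span {t ^ (n + 1)}) (b : B₀) : rho n σ (a ⊗ₜ b) = quotMap k t (n + 1) a * σ b :=
  Algebra.TensorProduct.lift_tmul _ _ _ _ _

variable (hA : ∀ a : A, ∃ (c : k) (a' : A), a = algebraMap k A c + t * a')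

include hA in
theorem exists_decomp (y : (A ⧸ Ideal.span {t ^ (n + 1)}) ⊗[k] B₀) :
    ∃ (b : B₀) (y' : (A ⧸ Ideal.span {t ^ (n + 1)}) ⊗[k] B₀),
      y = (1 : A ⧸ Ideal.span {t ^ (n + 1)}) ⊗ₜ b + ((Ideal.Quotient.mk _ t) ⊗ₜ[k] (1 : B₀)) * y' := by
  induction y using TensorProduct.induction_on with
  | zero => exact ⟨0, 0, by simp⟩
  | add x y hx hy =>
    obtain ⟨b, y', rfl⟩ := hx
    obtain ⟨c, z', rfl⟩ := hy
    exact ⟨b + c, y' + z', by rw [TensorProduct.tmul_add]; ring⟩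
  | tmul a b =>
    obtain ⟨a, rfl⟩ := Ideal.Quotient.mk_surjective a
    obtain ⟨c, a', rfl⟩ := hA a
    refine ⟨c • b, (Ideal.Quotient.mk _ a') ⊗ₜ b, ?_⟩
    rw [map_add, TensorProduct.add_tmul, Algebra.TensorProduct.tmul_mul_tmul, one_mul, map_mul,
      TensorProduct.tmul_smul, TensorProduct.smul_tmul']
    congr 2
    rw [Algebra.smul_def, mul_one]
    rfl

variable {σ} {e : (B ⧸ Ideal.span {algebraMap A B t}) ≃ₐ[k] B₀}
  (hσ : ∀ (b₀ : B₀) (b : B), Ideal.Quotient.mk _ b = σ b₀ → e (Ideal.Quotient.mk _ b) = b₀)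

omit [Algebra k A] [IsScalarTower k A B] in
include hσ in
theorem exists_decomp' (x : B ⧸ Ideal.span {(algebraMap A B t) ^ (n + 1)}) :
    ∃ (b₀ : B₀) (x' : B ⧸ Ideal.span {(algebraMap A B t) ^ (n + 1)}),
      x = σ b₀ + Ideal.Quotient.mk _ (algebraMap A B t) * x' := by
  obtain ⟨b, rfl⟩ := Ideal.Quotient.mk_surjective x
  obtain ⟨b', hb'⟩ := Ideal.Quotient.mk_surjective (σ (e (Ideal.Quotient.mk _ b)))
  have h1 := hσ _ _ hb'
  have h2 := e.injective h1
  rw [Ideal.Quotient.mk_eq_mk_iff_sub_mem, Ideal.mem_span_singleton'] at h2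
  obtain ⟨c, hc⟩ := h2
  refine ⟨e (Ideal.Quotient.mk _ b), Ideal.Quotient.mk _ (-c), ?_⟩
  rw [← hb', ← map_mul, ← map_add]
  congr 1
  linear_combination hc

include hσ in
theorem rho_surjective : Function.Surjective (rho n σ) := by
  have key : ∀ (j : ℕ) (x : B ⧸ Ideal.span {(algebraMap A B t) ^ (n + 1)}), ∃ y z,
      x = rho n σ y + Ideal.Quotient.mk _ ((algebraMap A B t) ^ j) * z := by
    intro j
    induction j with
    | zero => exact fun x => ⟨0, x, by simp⟩
    | succ j ih =>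
      intro x
      obtain ⟨y, z, rfl⟩ := ih x
      obtain ⟨b₀, z', rfl⟩ := exists_decomp' n hσ z
      refine ⟨y + (Ideal.Quotient.mk _ (t ^ j)) ⊗ₜ b₀, z', ?_⟩
      rw [map_add, rho_tmul, quotMap_mk_pow]
      have h1 : Ideal.Quotient.mk (Ideal.span {(algebraMap A B t) ^ (n + 1)}) ((algebraMap A B t) ^ (j + 1)) =
        Ideal.Quotient.mk _ ((algebraMap A B t) ^ j) * Ideal.Quotient.mk _ (algebraMap A B t) := by
        rw [← map_mul, ← pow_succ]
      rw [h1]
      ring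
  intro x
  obtain ⟨y, z, rfl⟩ := key (n + 1) x
  refine ⟨y, ?_⟩
  rw [Ideal.Quotient.eq_zero_iff_mem.2 (Ideal.mem_span_singleton_self _), zero_mul, add_zero]

include hA hσ in
theorem rho_injective (hτ : IsSMulRegular B (algebraMap A B t)) : Function.Injective (rho n σ) := by
  rw [injective_iff_map_eq_zero]
  intro y hy
  have key : ∀ j : ℕ, j ≤ n + 1 → ∃ y', y = ((Ideal.Quotient.mk _ (t ^ j)) ⊗ₜ[k] (1 : B₀)) * y' := by
    intro j
    induction j with
    | zero => exact fun _ => ⟨y, by rw [pow_zero, map_one, ← Algebra.TensorProduct.one_def, one_mul]⟩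
    | succ j ih =>
      intro hj
      obtain ⟨y', rfl⟩ := ih (by omega)
      obtain ⟨b₀, y'', rfl⟩ := exists_decomp n hA y'
      obtain ⟨b, hb⟩ := Ideal.Quotient.mk_surjective (rho n σ ((1 : A ⧸ Ideal.span {t ^ (n + 1)}) ⊗ₜ b₀ +
        ((Ideal.Quotient.mk _ t) ⊗ₜ[k] (1 : B₀)) * y''))
      rw [map_mul, ← hb, rho_tmul, quotMap_mk_pow, map_one, mul_one, ← map_mul, Ideal.Quotient.eq_zero_iff_mem,
        mem_span_pow] at hy
      obtain ⟨c, hc⟩ := hy
      obtain ⟨m, hm⟩ : ∃ m, n + 1 = j + (m + 1) := ⟨n - j, by omega⟩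
      have h1 : b = (algebraMap A B t) ^ (m + 1) * c := by
        apply (hτ.pow j)
        change (algebraMap A B t) ^ j * b = (algebraMap A B t) ^ j * ((algebraMap A B t) ^ (m + 1) * c)
        rw [hc, hm, pow_add]
        ring
      obtain ⟨b', hb'⟩ := Ideal.Quotient.mk_surjective (σ b₀)
      obtain ⟨b'', hb''⟩ := Ideal.Quotient.mk_surjective (rho n σ y'')
      have h2 := hσ _ _ hb'
      have h3 : b' ∈ Ideal.span {algebraMap A B t} := by
        rw [map_add, map_mul, rho_tmul, rho_tmul, map_one, one_mul, map_one, mul_one, ← hb', ← hb'', quotMap_mk,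
          ← map_mul, ← map_add, h1, Ideal.Quotient.mk_eq_mk_iff_sub_mem, mem_span_pow] at hb
        obtain ⟨d, hd⟩ := hb
        rw [Ideal.mem_span_singleton']
        refine ⟨(algebraMap A B t) ^ m * c - b'' - (algebraMap A B t) ^ n * d, ?_⟩
        linear_combination hd
      rw [Ideal.Quotient.eq_zero_iff_mem.2 h3, map_zero] at h2
      refine ⟨y'', ?_⟩
      rw [← h2, TensorProduct.tmul_zero, zero_add, ← mul_assoc, Algebra.TensorProduct.tmul_mul_tmul, one_mul,
        ← map_mul, ← pow_succ]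
  obtain ⟨y', rfl⟩ := key (n + 1) le_rfl
  rw [Ideal.Quotient.eq_zero_iff_mem.2 (Ideal.mem_span_singleton_self _), TensorProduct.zero_tmul, zero_mul]

end

end K96.Trivial
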